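import Cfsg.Agent.Lib.KnownC.SuzukiProducts.Field
import Cfsg.Agent.Lib.KnownB.SuzukiPartition
import Cfsg.Agent.Lib.KnownB.SuzukiCentreTI

/-!
# The classes of `Sz(q)`: elements are `2`-elements or products of the involutions `U 1` and `L d`
-/

set_option autoImplicit false

namespace CfsgLib.KnownC.SuzukiProducts

open Matrix CfsgLib.KnownB CfsgLib.KnownB.SzElem CfsgLib.KnownB.Suzuki CfsgLib.KnownB.TICount

variable {F : Type*} [Field F] {e : ℕ}

local notation "Szq" => Cfsg.Lie.Sz F e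

/-- The lower central involution. -/
def Low (he : Twist F e) (d : F) : Szq := W he * P he 0 d * W he

lemma U_mul_U (he : Twist F e) (b c : F) : P he 0 b * P he 0 c = P he 0 (b + c) := by
  rw [P_mul, add_zero, zero_pow_e' he, zero_mul, add_zero]

lemma U_sq (he : Twist F e) (b : F) : P he 0 b * P he 0 b = 1 := by
  rw [U_mul_U, add_self he, P_zero]

lemma Low_sq (he : Twist F e) (d : F) : Low he d * Low he d = 1 := by
  have h : Low he d * Low he d = W he * (P he 0 d * (W he * W he) * P he 0 d) * W he := by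
    simp only [Low, mul_assoc]
  rw [h, W_mul_W, mul_one, U_sq, mul_one, W_mul_W]

lemma U_central (he : Twist F e) (a b c : F) : P he a b * P he 0 c = P he 0 c * P he a b := by
  rw [P_mul, P_mul, zero_pow_e' he, mul_zero, zero_mul, add_zero, zero_add, add_zero, add_comm b c,
    add_zero]

/-- The trace. -/
noncomputable def tr (g : Szq) : F := Matrix.trace (mat g)

lemma tr_mul_comm (g h : Szq) : tr (g * h) = tr (h * g) := by
  rw [tr, tr, mat_mul, mat_mul, Matrix.trace_mul_comm]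

lemma tr_eq_of_isConj {g h : Szq} (hc : IsConj g h) : tr g = tr h := by
  obtain ⟨c, rfl⟩ := isConj_iff.1 hc
  rw [tr_mul_comm (c * g), ← mul_assoc, inv_mul_cancel, one_mul]

lemma tr_P (he : Twist F e) (a b : F) : tr (P he a b) = 0 := by
  rw [tr, mat_P]
  simp [Pmat, Matrix.trace, Fin.sum_univ_four]
  linear_combination 2 * he.two

lemma mat_Low (he : Twist F e) (d : F) : mat (Low he d) = Lmat e d := by
  rw [Low, mat_mul, mat_mul, mat_W, mat_P]
  have h0 := zero_pow_e' he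
  ext i j
  fin_cases i <;> fin_cases j <;>
    simp [Jmat, Pmat, Lmat, nrm, h0, Matrix.mul_apply, Fin.sum_univ_four]

lemma tr_P_Low (he : Twist F e) (a b d : F) :
    tr (P he a b * Low he d) = a ^ (e + 1) * d + nrm e a b * d ^ e := by
  rw [tr, mat_mul, mat_P, mat_Low]
  simp [Pmat, Lmat, Matrix.trace, Fin.sum_univ_four, Matrix.mul_apply, Matrix.vecMul, dotProduct]
  linear_combination (2 + b * d) * he.two

lemma tr_U_Low (he : Twist F e) (b d : F) : tr (P he 0 b * Low he d) = b ^ e * d ^ e := by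
  rw [tr_P_Low]
  simp [nrm, zero_pow_e' he, pow_succ]

lemma tr_four (he : Twist F e) (d δ : F) :
    tr (Low he d * P he 0 δ * Low he d * P he 0 δ) = ((d * δ) ^ e) ^ 2 := by
  rw [tr, mat_mul, mat_mul, mat_mul, mat_P, mat_Low]
  simp [Pmat, Lmat, nrm, zero_pow_e' he, Matrix.trace, Fin.sum_univ_four, Matrix.mul_apply,
    Matrix.vecMul, dotProduct, mul_pow]
  linear_combination (2 + 2 * δ * d + δ ^ e * d ^ e * (1 + δ * d) + d * δ + δ ^ 2 * d ^ 2
    + δ * d * δ ^ e * d ^ e + δ * d + δ ^ e * d ^ e) * he.two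

lemma tr_order_four (he : Twist F e) (i s : F) :
    tr (P he 1 i * (W he * P he s (s ^ (e + 1) * i) * W he)) =
      s ^ e * (1 + (1 + i + i ^ e) ^ 2 * s ^ 2) := by
  rw [tr, mat_mul, mat_mul, mat_mul, mat_P, mat_P, mat_W]
  simp [Jmat, Pmat, nrm, Matrix.trace, Fin.sum_univ_four, Matrix.mul_apply, Matrix.vecMul,
    dotProduct, pow_add, mul_pow, he.pow_pow, he.add_pow]
  grind [he.two]

lemma exists_inverter_torus [Fintype F] (hp : Params F e) {A : Subgroup Szq} (hA : IsTorus A)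
    (hN : Nat.card (Subgroup.normalizer (A : Set Szq)) = 4 * Nat.card A) {a : Szq} (ha : a ∈ A) :
    ∃ s : Szq, s * s = 1 ∧ s ≠ 1 ∧ s * a * s = a⁻¹ := by
  have : Fact (Nat.Prime 2) := ⟨Nat.prime_two⟩
  obtain ⟨⟨s, hsN⟩, hs⟩ := exists_prime_orderOf_dvd_card'
    (G := Subgroup.normalizer (A : Set Szq)) 2 (by rw [hN]; omega)
  have hso : orderOf s = 2 := by rwa [Subgroup.orderOf_mk] at hs
  have hss : s * s = 1 := by rw [← pow_two, ← hso, pow_orderOf_eq_one]
  have hs1 : s ≠ 1 := fun h => by rw [h, orderOf_one] at hso; omega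
  have hsinv : s⁻¹ = s := inv_eq_of_mul_eq_one_right hss
  have hsA : s ∉ A := fun h => by
    refine odd_sq_add_one hp ((?_ : 2 ∣ Nat.card A).trans (hA.card_dvd hp))
    exact hso ▸ Subgroup.orderOf_dvd_natCard _ h
  refine ⟨s, hss, hs1, ?_⟩
  have hsa : s * a * s ∈ A := by
    have h := (Subgroup.mem_normalizer_iff.1 hsN a).1 ha
    rwa [hsinv] at h
  have hcomm : a * (s * a * s) = s * a * s * a := by
    let _ := @IsCyclic.commGroup _ _ (hA.cyclic hp)
    exact congrArg Subtype.val (mul_comm (⟨a, ha⟩ : A) ⟨_, hsa⟩)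
  refine (inv_eq_of_mul_eq_one_right ?_).symm
  by_contra hne
  apply hsA
  rw [← hA.centralizer_eq hp (mul_mem ha hsa) hne, Subgroup.mem_centralizer_singleton_iff]
  calc s * (a * (s * a * s)) = s * a * s * a * (1 * s) := by simp only [mul_assoc, one_mul]
    _ = a * (s * a * s) * s := by rw [one_mul, hcomm]

lemma exists_inverter [Fintype F] (hp : Params F e) {x : Szq} (hx : x ≠ 1)
    (hxU : x ∉ conjSet (uGroup hp.twist)) :
    ∃ s : Szq, s * s = 1 ∧ s ≠ 1 ∧ s * x * s = x⁻¹ := by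
  have transfer : ∀ g : Szq, (∃ s : Szq, s * s = 1 ∧ s ≠ 1 ∧
      s * (g * x * g⁻¹) * s = (g * x * g⁻¹)⁻¹) → ∃ s : Szq, s * s = 1 ∧ s ≠ 1 ∧ s * x * s = x⁻¹ := by
    rintro g ⟨s, h1, h2, h3⟩
    refine ⟨g⁻¹ * s * g, ?_, fun h => h2 ?_, ?_⟩
    · calc g⁻¹ * s * g * (g⁻¹ * s * g) = g⁻¹ * (s * s) * g := by group
        _ = 1 := by rw [h1, mul_one, inv_mul_cancel]
    · calc s = g * (g⁻¹ * s * g) * g⁻¹ := by group
        _ = 1 := by rw [h, mul_one, mul_inv_cancel]
    · calc g⁻¹ * s * g * x * (g⁻¹ * s * g) = g⁻¹ * (s * (g * x * g⁻¹) * s) * g := by group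
        _ = x⁻¹ := by rw [h3]; group
  rcases exists_cases hp hx with h | ⟨-, g, t, ht⟩ | h
  · exact absurd h hxU
  · refine transfer g ⟨W hp.twist, W_mul_W hp.twist, fun h => ?_, ?_⟩
    · exact W_notMem_borel hp.twist (h ▸ one_mem _)
    · rw [← ht]
      show W hp.twist * H e hp.twist t * W hp.twist = (H e hp.twist t)⁻¹
      rw [W_conj_H, H_inv]
  · obtain ⟨A, B, hA, hB, -, -, hNA, hNB, hsub⟩ := exists_tori hp
    rcases hsub h with ⟨-, g, hg⟩ | ⟨-, g, hg⟩
    · exact transfer g (exists_inverter_torus hp hA hNA hg)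
    · exact transfer g (exists_inverter_torus hp hB hNB hg)

lemma conjSet_congr [Fintype F] (he : Twist F e) {x y : Szq} (h : IsConj x y)
    (hx : x ∈ conjSet (uGroup he)) : y ∈ conjSet (uGroup he) := by
  obtain ⟨c, rfl⟩ := isConj_iff.1 h
  obtain ⟨h1, g, hg⟩ := hx
  refine ⟨fun h' => h1 (conj_eq_one_iff.1 h'), g * c⁻¹, ?_⟩
  convert hg using 1
  group

/-- An element which is not a `2`-element is conjugate to `U 1 * L d`. -/
theorem exists_isConj_pair [Fintype F] (hp : Params F e) {x : Szq} (hx : x ≠ 1)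
    (hxU : x ∉ conjSet (uGroup hp.twist)) :
    ∃ d : F, d ≠ 0 ∧ IsConj x (P hp.twist 0 1 * Low hp.twist d) := by
  have he := hp.twist
  have : Fact (Nat.Prime 2) := ⟨Nat.prime_two⟩
  obtain ⟨s, hss, hs1, hsx⟩ := exists_inverter hp hx hxU
  have hpg : ∀ t : Szq, t * t = 1 → ∃ g b, g * t * g⁻¹ = P he 0 b := by
    intro t ht
    obtain ⟨g, hg⟩ := conj_mem_uGroup hp (x := t) (IsPGroup.iff_card.2 (by
      rw [Nat.card_zpowers]
      obtain ⟨k, -, hk⟩ := (Nat.dvd_prime_pow Nat.prime_two (m := 1)).1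
        (show orderOf t ∣ 2 ^ 1 from orderOf_dvd_of_pow_eq_one (by rw [pow_one, pow_two, ht]))
      exact ⟨k, hk⟩))
    obtain ⟨b, hb⟩ := exists_central_of_sq he hg (by
      rw [pow_two]
      calc g * t * g⁻¹ * (g * t * g⁻¹) = g * (t * t) * g⁻¹ := by group
        _ = 1 := by rw [ht, mul_one, mul_inv_cancel])
    exact ⟨g, b, hb⟩
  -- make the first involution `U 1`
  obtain ⟨g, hg⟩ : ∃ g, g * s * g⁻¹ = P he 0 1 := by
    obtain ⟨g, b, hb⟩ := hpg s hss
    have hb0 : b ≠ 0 := by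
      rintro rfl
      rw [P_zero] at hb
      exact hs1 (conj_eq_one_iff.1 hb)
    obtain ⟨t, ht⟩ := surjective_pow (F := F) (n := e + 2) (by omega)
      (fun w hw => eq_one_of_pow_e2 he hw) b⁻¹
    change t ^ (e + 2) = b⁻¹ at ht
    have ht0 : t ≠ 0 := by
      rintro rfl
      rw [zero_pow (by omega)] at ht
      exact inv_ne_zero hb0 ht.symm
    refine ⟨H e he (Units.mk0 t ht0) * g, ?_⟩
    rw [show H e he (Units.mk0 t ht0) * g * s * (H e he (Units.mk0 t ht0) * g)⁻¹ =
      H e he (Units.mk0 t ht0) * (g * s * g⁻¹) * (H e he (Units.mk0 t ht0))⁻¹ by group, hb, H_conj_P,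
      mul_zero, Units.val_mk0, ht, inv_mul_cancel₀ hb0]
  set y := g * x * g⁻¹ with hy
  have hyU : y ∉ conjSet (uGroup he) := fun h =>
    hxU (conjSet_congr he (isConj_iff.2 ⟨g⁻¹, by rw [hy]; group⟩) h)
  have hy1 : y ≠ 1 := fun h => hx (conj_eq_one_iff.1 h)
  have hyy : P he 0 1 * y * P he 0 1 = y⁻¹ := by
    rw [← hg, hy]
    calc g * s * g⁻¹ * (g * x * g⁻¹) * (g * s * g⁻¹) = g * (s * x * s) * g⁻¹ := by group
      _ = (g * x * g⁻¹)⁻¹ := by rw [hsx]; group
  set j := P he 0 1 * y with hj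
  have hyj : y = P he 0 1 * j := by rw [hj, ← mul_assoc, U_sq, one_mul]
  have hjj : j * j = 1 := by
    rw [hj, ← mul_assoc, hyy, inv_mul_cancel]
  obtain ⟨k, b, hb⟩ := hpg j hjj
  have hjk : j = k⁻¹ * P he 0 b * k := by rw [← hb]; group
  by_cases hkB : k⁻¹ ∈ borel F e
  · exfalso
    refine hyU ⟨hy1, 1, ?_⟩
    rw [one_mul, inv_one, mul_one, hyj]
    refine mul_mem (P_mem_uGroup he _ _) ?_
    have h := (Subgroup.mem_normalizer_iff.1 (borel_le_normalizer he hkB) (P he 0 b)).1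
      (P_mem_uGroup he 0 b)
    rw [inv_inv] at h
    rwa [hjk]
  · obtain ⟨a, c, a', c', t, hk⟩ := exists_bruhat' he k⁻¹ hkB
    have h1 : j = P he a c * Low he ((t : F) ^ (e + 2) * b) * (P he a c)⁻¹ := by
      rw [hjk, show k = (k⁻¹)⁻¹ from (inv_inv k).symm, hk]
      calc P he a c * W he * P he a' c' * H e he t * P he 0 b *
            (P he a c * W he * P he a' c' * H e he t)⁻¹
          = P he a c * W he * (P he a' c' * (H e he t * P he 0 b * (H e he t)⁻¹) *
            (P he a' c')⁻¹) * (W he)⁻¹ * (P he a c)⁻¹ := by group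
        _ = P he a c * Low he ((t : F) ^ (e + 2) * b) * (P he a c)⁻¹ := by
            rw [H_conj_P, mul_zero, U_central, mul_inv_cancel_right, W_inv, Low]
            simp only [mul_assoc]
    refine ⟨(t : F) ^ (e + 2) * b, fun h0 => ?_, isConj_iff.2 ⟨(P he a c)⁻¹ * g, ?_⟩⟩
    · rw [h0] at h1
      rw [h1, Low, P_zero, mul_one, W_mul_W, mul_one, mul_inv_cancel, mul_one] at hyj
      exact hyU ⟨hy1, 1, by rw [one_mul, inv_one, mul_one, hyj]; exact P_mem_uGroup he _ _⟩
    · calc (P he a c)⁻¹ * g * x * ((P he a c)⁻¹ * g)⁻¹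
          = (P he a c)⁻¹ * y * P he a c := by rw [hy]; group
        _ = (P he a c)⁻¹ * (P he 0 1 * P he a c) * Low he ((t : F) ^ (e + 2) * b) := by
            rw [hyj, h1]; group
        _ = P he 0 1 * Low he ((t : F) ^ (e + 2) * b) := by
            rw [← U_central, inv_mul_cancel_left]

lemma pow_e_injective (he : Twist F e) : Function.Injective fun x : F => x ^ e := by
  intro x y h
  refine eq_of_add_eq_zero he ((pow_eq_zero_iff (e_ne_zero he)).1 ?_)
  rw [he.add_pow, show x ^ e = y ^ e from h, add_self he]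

/-- An element with nonzero trace `d ^ e` is conjugate to `U 1 * L d`. -/
theorem isConj_of_tr [Fintype F] (hp : Params F e) {g : Szq} {d : F} (hd : d ≠ 0)
    (h : tr g = d ^ e) : IsConj g (P hp.twist 0 1 * Low hp.twist d) := by
  have he := hp.twist
  have hg1 : g ≠ 1 := by
    rintro rfl
    rw [show (1 : Szq) = P he 0 0 from (P_zero he).symm, tr_P] at h
    exact pow_ne_zero e hd h.symm
  obtain ⟨d', -, hc⟩ := exists_isConj_pair hp hg1 (fun ⟨_, c, hc⟩ => by
    obtain ⟨⟨a, b⟩, hab⟩ := hc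
    have h' := tr_eq_of_isConj (isConj_iff.2 ⟨c, hab.symm⟩ : IsConj g (P he a b))
    rw [tr_P, h] at h'
    exact pow_ne_zero e hd h')
  have h' := tr_eq_of_isConj hc
  rw [h, tr_U_Low, one_pow, one_mul] at h'
  rwa [pow_e_injective he h']

end CfsgLib.KnownC.SuzukiProducts
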