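import Cfsg.Agent.Lib.KnownC.SuzukiProducts.Classes

/-!
# The square of a class of elements of order above two covers `Sz(q) \ {1}`
-/

set_option autoImplicit false

namespace CfsgLib.KnownC.SuzukiProducts

open CfsgLib.KnownB CfsgLib.KnownB.SzElem CfsgLib.KnownB.Suzuki CfsgLib.KnownB.TICount

variable {F : Type*} [Field F] {e : ℕ}

local notation "Szq" => Cfsg.Lie.Sz F e

/-- `g` is a product of two conjugates of `x`. -/
def Cov (x g : Szq) : Prop := ∃ a b, IsConj x a ∧ IsConj x b ∧ a * b = g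

lemma Cov.of_isConj {x g g' : Szq} (h : Cov x g) (hg : IsConj g g') : Cov x g' := by
  obtain ⟨a, b, ha, hb, rfl⟩ := h
  obtain ⟨c, rfl⟩ := isConj_iff.1 hg
  exact ⟨c * a * c⁻¹, c * b * c⁻¹, ha.trans (isConj_iff.2 ⟨c, rfl⟩),
    hb.trans (isConj_iff.2 ⟨c, rfl⟩), by group⟩

lemma Cov.congr {x x' g : Szq} (h : Cov x g) (hx : IsConj x' x) : Cov x' g := by
  obtain ⟨a, b, ha, hb, hab⟩ := h
  exact ⟨a, b, hx.trans ha, hx.trans hb, hab⟩

lemma isConj_inv' {x y : Szq} (h : IsConj x y) : IsConj x⁻¹ y⁻¹ := by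
  obtain ⟨c, rfl⟩ := isConj_iff.1 h
  exact isConj_iff.2 ⟨c, by group⟩

lemma Cov.inv {x g : Szq} (h : Cov x g) : Cov x⁻¹ g⁻¹ := by
  obtain ⟨a, b, ha, hb, rfl⟩ := h
  exact ⟨b⁻¹, a⁻¹, isConj_inv' hb, isConj_inv' ha, (mul_inv_rev a b).symm⟩

lemma pair_real (he : Twist F e) (d : F) :
    IsConj (P he 0 1 * Low he d) (P he 0 1 * Low he d)⁻¹ := by
  refine isConj_iff.2 ⟨P he 0 1, ?_⟩
  rw [mul_inv_rev, inv_eq_of_mul_eq_one_right (U_sq he 1), inv_eq_of_mul_eq_one_right (Low_sq he d),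
    ← mul_assoc, U_sq, one_mul]

variable [Fintype F]

lemma exists_unit_pow (he : Twist F e) {n : ℕ} (hn : n ≠ 0) (h : ∀ w : F, w ^ n = 1 → w = 1) {a : F}
    (ha : a ≠ 0) : ∃ t : Fˣ, (t : F) ^ n = a := by
  obtain ⟨t, ht⟩ := surjective_pow hn h a
  exact ⟨Units.mk0 t fun h0 => ha (by rw [← ht, h0]; exact zero_pow hn), ht⟩

lemma isConj_U (he : Twist F e) {b c : F} (hb : b ≠ 0) (hc : c ≠ 0) :
    IsConj (P he 0 b) (P he 0 c) := by
  obtain ⟨t, ht⟩ := exists_unit_pow he (n := e + 2) (by omega) (fun w => eq_one_of_pow_e2 he)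
    (div_ne_zero hc hb)
  refine isConj_iff.2 ⟨H e he t, ?_⟩
  rw [H_conj_P, mul_zero, ht, div_mul_cancel₀ _ hb]

lemma isConj_P_one_of_mem (he : Twist F e) {i : F} (hi : i ∈ II he) :
    IsConj (P he 1 0) (P he 1 i) := by
  obtain ⟨c, rfl⟩ := hi
  refine isConj_iff.2 ⟨P he c 0, ?_⟩
  rw [P_inv, P_mul, P_mul, show psi he c = c ^ e + c from rfl]
  congr 1
  · linear_combination add_self he c
  · rw [he.add_pow, one_pow]
    linear_combination add_self he (c ^ e * c)

lemma isConj_P_scale (he : Twist F e) {a : F} (ha : a ≠ 0) {i : F} (hi : i ∈ II he) :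
    IsConj (P he 1 0) (P he a (a ^ (e + 1) * i)) := by
  obtain ⟨t, ht⟩ := exists_unit_pow he (n := e) (e_ne_zero he) (fun w => eq_one_of_pow_e he) ha
  refine (isConj_P_one_of_mem he hi).trans (isConj_iff.2 ⟨H e he t, ?_⟩)
  rw [H_conj_P, mul_one, ← ht]
  congr 2
  simp only [pow_succ, pow_add, mul_pow, he.pow_pow]
  ring

lemma isConj_P_cases (he : Twist F e) {a : F} (ha : a ≠ 0) (b : F) :
    IsConj (P he a b) (P he 1 0) ∨ IsConj (P he a b) (P he 1 0)⁻¹ := by
  obtain ⟨i, hi⟩ : ∃ i, b = a ^ (e + 1) * i := ⟨b / a ^ (e + 1), (mul_div_cancel₀ _ (pow_ne_zero _ ha)).symm⟩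
  subst hi
  by_cases hi : i ∈ II he
  · exact Or.inl (isConj_P_scale he ha hi).symm
  · refine Or.inr ?_
    have h := isConj_inv' (isConj_P_scale he ha ((add_one_mem_iff he i).2 hi)).symm
    convert h using 1
    rw [P_inv]
    congr 1
    rw [pow_succ]
    linear_combination -(add_self he (a ^ e * a))

/-- Covering of the nonidentity elements, from the three kinds. -/
lemma cov_all (hp : Params F e) {x : Szq}
    (hU : Cov x (P hp.twist 0 1))
    (h4 : Cov x (P hp.twist 1 0) ∧ Cov x (P hp.twist 1 0)⁻¹)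
    (hs : ∀ d : F, d ≠ 0 → Cov x (P hp.twist 0 1 * Low hp.twist d)) {g : Szq} (hg : g ≠ 1) :
    Cov x g := by
  have he := hp.twist
  by_cases h : g ∈ conjSet (uGroup he)
  · obtain ⟨-, c, ⟨a, b⟩, hab⟩ := h
    have hc : IsConj (P he a b) g := (isConj_iff.2 ⟨c, hab.symm⟩ : IsConj g (P he a b)).symm
    rcases eq_or_ne a 0 with rfl | ha
    · have hb : b ≠ 0 := by
        rintro rfl
        have hab' : P he 0 0 = c * g * c⁻¹ := hab
        rw [P_zero] at hab'
        exact hg (conj_eq_one_iff.1 hab'.symm)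
      exact (hU.of_isConj (isConj_U he one_ne_zero hb)).of_isConj hc
    · rcases isConj_P_cases he ha b with h' | h'
      · exact (h4.1.of_isConj h'.symm).of_isConj hc
      · exact (h4.2.of_isConj h'.symm).of_isConj hc
  · obtain ⟨d, hd, hc⟩ := exists_isConj_pair hp hg h
    exact (hs d hd).of_isConj hc.symm

lemma three_le_card (hp : Params F e) : 3 ≤ Nat.card F := by
  have := hp.eight
  rw [Nat.card_eq_fintype_card]
  omega

/-- The class of `U 1 * L d₀`. -/
theorem cov_pair (hp : Params F e) {d₀ : F} (hd₀ : d₀ ≠ 0) {g : Szq} (hg : g ≠ 1) :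
    Cov (P hp.twist 0 1 * Low hp.twist d₀) g := by
  have he := hp.twist
  set x := P he 0 1 * Low he d₀
  have hT : ∀ y : Szq, tr y = d₀ ^ e → IsConj x y := fun y hy => (isConj_of_tr hp hd₀ hy).symm
  obtain ⟨a, b, β, ha, hβ, haβ, hab⟩ := exists_pair he (three_le_card hp) (d₀ ^ e)
  have h1 : tr (P he a b * Low he 1) = d₀ ^ e := by rw [tr_P_Low, one_pow, mul_one, mul_one, hab]
  have h0 : tr (P he 0 d₀ * Low he 1) = d₀ ^ e := by rw [tr_U_Low, one_pow, mul_one]
  have h2 : tr (P he a (b + β) * Low he 1) = d₀ ^ e := by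
    rw [← hab, tr_P_Low, one_pow, mul_one, mul_one, nrm, nrm, he.add_pow, mul_add a b β, haβ]
    linear_combination add_self he (β ^ e)
  have hinv : ∀ y : Szq, tr y = d₀ ^ e → IsConj x y⁻¹ := fun y hy =>
    (pair_real he d₀).trans (isConj_inv' (hT y hy))
  have hr : ∀ {g : Szq}, Cov x g → Cov x g⁻¹ := fun {g} h => h.inv.congr (pair_real he d₀)
  -- the elements of order four
  have h4 : Cov x (P he 1 0) ∧ Cov x (P he 1 0)⁻¹ := by
    have h : Cov x (P he a (b + d₀)) := by
      refine ⟨_, _, hT _ h1, hinv _ h0, ?_⟩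
      rw [mul_inv_rev, inv_eq_of_mul_eq_one_right (Low_sq he 1),
        inv_eq_of_mul_eq_one_right (U_sq he d₀)]
      calc P he a b * Low he 1 * (Low he 1 * P he 0 d₀)
          = P he a b * (Low he 1 * Low he 1) * P he 0 d₀ := by simp only [mul_assoc]
        _ = P he a (b + d₀) := by rw [Low_sq, mul_one, P_mul, add_zero, mul_zero, add_zero]
    rcases isConj_P_cases he ha (b + d₀) with h' | h'
    · exact ⟨h.of_isConj h', hr (h.of_isConj h')⟩
    · exact ⟨by simpa using hr (h.of_isConj h'), h.of_isConj h'⟩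
  refine cov_all hp ?_ h4 (fun d hd => ?_) hg
  · -- the involutions
    have h : Cov x (P he 0 β) := by
      refine ⟨_, _, hT _ h1, hinv _ h2, ?_⟩
      rw [mul_inv_rev, inv_eq_of_mul_eq_one_right (Low_sq he 1), P_inv]
      calc P he a b * Low he 1 * (Low he 1 * P he a (b + β + a ^ e * a))
          = P he a b * (Low he 1 * Low he 1) * P he a (b + β + a ^ e * a) := by simp only [mul_assoc]
        _ = P he 0 β := by
            rw [Low_sq, mul_one, P_mul, add_self he]
            congr 1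
            linear_combination add_self he b + add_self he (a ^ e * a)
    exact h.of_isConj (isConj_U he hβ one_ne_zero)
  · -- the other elements
    obtain ⟨z, hz⟩ := surjective_pow (F := F) (n := 2) two_ne_zero (fun w hw => sq_inj he (by rw [hw, one_pow])) d
    change z ^ 2 = d at hz
    have hz0 : z ≠ 0 := by
      rintro rfl
      exact hd (by rw [← hz]; simp)
    set δ := z / d₀
    have htr : tr (Low he d₀ * P he 0 δ * Low he d₀ * P he 0 δ) = d ^ e := by
      rw [tr_four, mul_div_cancel₀ _ hd₀, ← hz, pow_right_comm]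
    have hswap : IsConj x (Low he d₀ * P he 0 1) := isConj_iff.2 ⟨Low he d₀, by
      rw [inv_eq_of_mul_eq_one_right (Low_sq he d₀)]
      simp only [x, mul_assoc, Low_sq, mul_one]⟩
    have hc2 : IsConj x (P he 0 δ * x * (P he 0 δ)⁻¹) := isConj_iff.2 ⟨_, rfl⟩
    refine Cov.of_isConj (g := Low he d₀ * P he 0 δ * Low he d₀ * P he 0 δ) ?_
      (isConj_of_tr hp hd htr)
    refine ⟨_, _, hswap, hc2, ?_⟩
    rw [inv_eq_of_mul_eq_one_right (U_sq he δ)]
    calc Low he d₀ * P he 0 1 * (P he 0 δ * x * P he 0 δ)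
        = Low he d₀ * (P he 0 1 * (P he 0 δ * P he 0 1)) * Low he d₀ * P he 0 δ := by
          simp only [x, mul_assoc]
      _ = _ := by rw [U_central he 0 δ 1, ← mul_assoc (P he 0 1), U_sq, one_mul]

/-- The class of the elements of order four. -/
theorem cov_four (hp : Params F e) {g : Szq} (hg : g ≠ 1) : Cov (P hp.twist 1 0) g := by
  have he := hp.twist
  obtain ⟨y, hy0, hy1⟩ := exists_ne (three_le_card hp)
  have hyy : y + 1 ≠ 0 := fun h => hy1 (eq_of_add_eq_zero he h)
  -- every `P 1 z`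
  have h4 : ∀ z, Cov (P he 1 0) (P he 1 z) := by
    intro z
    have hne : y ^ (e + 1) ≠ (y + 1) ^ (e + 1) := fun h => by
      have h' : ((y + 1) / y) ^ (e + 1) = 1 := by rw [div_pow, ← h, div_self (pow_ne_zero _ hy0)]
      have := (div_eq_one_iff_eq hy0).1 (pow_e_succ_eq_one he h')
      exact one_ne_zero (by linear_combination this)
    obtain ⟨i, hi, j, hj, hij⟩ := exists_combination he (pow_ne_zero (e + 1) hy0)
      (pow_ne_zero (e + 1) hyy) hne (z + y ^ e * (y + 1))
    refine ⟨_, _, isConj_P_scale he hy0 hi, isConj_P_scale he hyy hj, ?_⟩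
    rw [P_mul]
    congr 1
    · linear_combination add_self he y
    · linear_combination -hij + add_self he (y ^ e * (y + 1))
  refine cov_all hp ?_ ⟨h4 0, ?_⟩ (fun d hd => ?_) hg
  · have h := isConj_P_scale he one_ne_zero (zero_mem (II he))
    refine Cov.of_isConj (g := P he 0 1) ⟨_, _, h, h, ?_⟩ (IsConj.refl _)
    rw [P_mul, add_self he, mul_zero, one_pow, add_zero, mul_one, zero_add]
  · rw [P_inv]
    exact h4 _
  · have hev : 2 ∣ e := (Nat.prime_two.dvd_mul.1 (Dvd.intro _ hp.sq.symm)).elim id id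
    obtain ⟨s, N, hs, hN, hsN⟩ := exists_scale he (three_le_card hp) hev (pow_ne_zero e hd)
    obtain ⟨i, hi, rfl⟩ := exists_norm he hN
    have hc : IsConj (P he 1 0) (W he * P he s (s ^ (e + 1) * i) * W he) :=
      (isConj_P_scale he hs hi).trans (isConj_iff.2 ⟨W he, by rw [W_inv]⟩)
    refine Cov.of_isConj ⟨_, _, isConj_P_one_of_mem he hi, hc, rfl⟩ (isConj_of_tr hp hd ?_)
    rw [tr_order_four, hsN]

/-- Every class of elements of order above two. -/
theorem cov_of_orderOf (hp : Params F e) {x g : Szq} (hx : 2 < orderOf x) (hg : g ≠ 1) :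
    ∃ u v, g = (u * x * u⁻¹) * (v * x * v⁻¹) := by
  have he := hp.twist
  suffices h : Cov x g by
    obtain ⟨_, _, ha, hb, rfl⟩ := h
    obtain ⟨u, rfl⟩ := isConj_iff.1 ha
    obtain ⟨v, rfl⟩ := isConj_iff.1 hb
    exact ⟨u, v, rfl⟩
  have hx1 : x ≠ 1 := by
    rintro rfl
    simp at hx
  by_cases h : x ∈ conjSet (uGroup he)
  · obtain ⟨-, c, ⟨a, b⟩, hab⟩ := h
    have hc : IsConj x (P he a b) := isConj_iff.2 ⟨c, hab.symm⟩
    have ha : a ≠ 0 := by
      rintro rfl
      have h2 : orderOf x ∣ 2 := orderOf_dvd_of_pow_eq_one (by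
        obtain ⟨c', rfl⟩ := isConj_iff.1 hc.symm
        rw [pow_two]
        calc c' * P he 0 b * c'⁻¹ * (c' * P he 0 b * c'⁻¹)
            = c' * (P he 0 b * P he 0 b) * c'⁻¹ := by group
          _ = 1 := by rw [U_sq, mul_one, mul_inv_cancel])
      have := Nat.le_of_dvd two_pos h2
      omega
    rcases isConj_P_cases he ha b with h' | h'
    · exact (cov_four hp hg).congr (hc.trans h')
    · have h'' := (cov_four hp (inv_ne_one.2 hg)).inv
      rw [inv_inv] at h''
      exact h''.congr (hc.trans h')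
  · obtain ⟨d, hd, hc⟩ := exists_isConj_pair hp hx1 h
    exact (cov_pair hp hd hg).congr hc

end CfsgLib.KnownC.SuzukiProducts
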