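import Cfsg.Agent.Lib.KnownB.SuzukiFacts
import Cfsg.Agent.Lib.KnownB.SuzukiTori
import Mathlib.FieldTheory.Finite.Basic

/-!
# The hyperplane `{y ^ e + y}` and the equations solved for class products in `Sz(q)`
-/

set_option autoImplicit false

namespace CfsgLib.KnownC.SuzukiProducts

open CfsgLib.KnownB.SzElem CfsgLib.KnownB.Suzuki

variable {F : Type*} [Field F] {e : ℕ}

lemma add_self (he : Twist F e) (x : F) : x + x = 0 := by
  rw [← two_mul, he.two, zero_mul]

lemma eq_of_add_eq_zero (he : Twist F e) {x y : F} (h : x + y = 0) : x = y := by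
  linear_combination h - add_self he y

lemma e_ne_zero (he : Twist F e) : e ≠ 0 := Nat.ne_zero_of_lt he.one_lt

lemma zero_pow_e' (he : Twist F e) : (0 : F) ^ e = 0 := zero_pow (e_ne_zero he)

/-- A fixed point of `x ↦ x ^ e` is `0` or `1`. -/
lemma fixed (he : Twist F e) {w : F} (h : w ^ e = w) : w = 0 ∨ w = 1 := by
  have h2 := he.pow_pow w
  rw [h, h] at h2
  rcases mul_eq_zero.1 (show w * (w - 1) = 0 by linear_combination -h2) with h3 | h3
  · exact Or.inl h3
  · exact Or.inr (sub_eq_zero.1 h3)

lemma fixed_sq (he : Twist F e) {w : F} (h : w ^ e = w ^ 2) : w = 0 ∨ w = 1 := by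
  have h2 := he.pow_pow w
  rw [h, pow_right_comm, h] at h2
  rcases mul_eq_zero.1 (show w ^ 2 * ((w + 1) * (w + 1)) = 0 by
    linear_combination h2 + (w ^ 3 + w ^ 2) * he.two) with h3 | h3
  · exact Or.inl (pow_eq_zero_iff two_ne_zero |>.1 h3)
  · exact Or.inr (eq_of_add_eq_zero he (mul_self_eq_zero.1 h3))

lemma pow_e_succ_eq_one (he : Twist F e) {w : F} (h : w ^ (e + 1) = 1) : w = 1 := by
  refine eq_one_of_pow_e2 he ?_
  have h1 := congrArg (fun x => x ^ e) h
  simp only [one_pow, pow_succ, mul_pow, he.pow_pow] at h1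
  linear_combination h1

lemma surjective_pow [Finite F] {n : ℕ} (hn : n ≠ 0) (h : ∀ w : F, w ^ n = 1 → w = 1) :
    Function.Surjective fun x : F => x ^ n := by
  refine Finite.surjective_of_injective fun x y (hxy : x ^ n = y ^ n) => ?_
  rcases eq_or_ne y 0 with rfl | hy
  · rw [zero_pow hn] at hxy
    exact pow_eq_zero_iff hn |>.1 hxy
  · exact (div_eq_one_iff_eq hy).1 (h _ (by rw [div_pow, hxy, div_self (pow_ne_zero _ hy)]))

/-- `y ↦ y ^ e + y`. -/
def psi (he : Twist F e) : F →+ F where
  toFun y := y ^ e + y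
  map_zero' := by rw [zero_pow_e' he, add_zero]
  map_add' x y := by rw [he.add_pow]; abel

/-- The image of `y ↦ y ^ e + y`. -/
def II (he : Twist F e) : AddSubgroup F := (psi he).range

lemma psi_mem (he : Twist F e) (y : F) : y ^ e + y ∈ II he := ⟨y, rfl⟩

lemma one_notMem (he : Twist F e) : (1 : F) ∉ II he := fun ⟨d, hd⟩ => by
  apply no_root he d
  rw [show d ^ e + d = (1 : F) from hd]
  exact add_self he 1

variable [Finite F]

lemma index_II (he : Twist F e) : (II he).index = 2 := by
  classical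
  have hker : ((psi he).ker : Set F) = {0, 1} := by
    ext w
    simp only [SetLike.mem_coe, AddMonoidHom.mem_ker, Set.mem_insert_iff, Set.mem_singleton_iff]
    constructor
    · intro h
      exact fixed he (eq_of_add_eq_zero he h)
    · rintro (rfl | rfl)
      · exact map_zero _
      · show (1 : F) ^ e + 1 = 0
        rw [one_pow, add_self he]
  have hc : Nat.card (psi he).ker = 2 := by
    rw [← SetLike.coe_sort_coe, hker, Nat.card_coe_set_eq, Set.ncard_pair zero_ne_one]
  have h1 := (psi he).ker.index_mul_card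
  rw [AddSubgroup.index_ker, hc] at h1
  have h2 := (II he).index_mul_card
  change (II he).index * Nat.card (psi he).range = _ at h2
  have : 0 < Nat.card (psi he).range := Nat.card_pos
  exact Nat.eq_of_mul_eq_mul_right this (by rw [h2, ← h1, mul_comm])

lemma mem_or (he : Twist F e) (z : F) : z ∈ II he ∨ z + 1 ∈ II he := by
  by_cases h : z ∈ II he
  · exact Or.inl h
  · exact Or.inr ((AddSubgroup.add_mem_iff_of_index_two (index_II he)).2
      (iff_of_false h (one_notMem he)))

lemma add_one_mem_iff (he : Twist F e) (z : F) : z + 1 ∈ II he ↔ z ∉ II he := by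
  refine ⟨fun h h' => one_notMem he ?_, fun h => (mem_or he z).resolve_left h⟩
  simpa using sub_mem h h'

lemma exists_notMem_mul (he : Twist F e) {r : F} (hr0 : r ≠ 0) (hr : r ≠ 1) :
    ∃ j ∈ II he, r * j ∉ II he := by
  by_contra hcon
  push Not at hcon
  obtain ⟨s, hsI, hs0, hs⟩ : ∃ s, s ∈ II he ∧ s ≠ 0 ∧ ∀ i ∈ II he, s * i ∈ II he := by
    rcases mem_or he r with h | h
    · exact ⟨r, h, hr0, hcon⟩
    · refine ⟨r + 1, h, fun h0 => hr (eq_of_add_eq_zero he h0), fun i hi => ?_⟩
      rw [add_mul, one_mul]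
      exact add_mem (hcon i hi) hi
  obtain ⟨⟨i, hi⟩, hii⟩ := Finite.surjective_of_injective
    (f := fun i : II he => (⟨s * i, hs i i.2⟩ : II he))
    (fun a b hab => Subtype.ext (mul_left_cancel₀ hs0 (congrArg Subtype.val hab))) ⟨s, hsI⟩
  have h1 : s * i = s * 1 := by rw [mul_one]; exact congrArg Subtype.val hii
  exact one_notMem he (mul_left_cancel₀ hs0 h1 ▸ hi)

/-- Two different multiples of the hyperplane span. -/
lemma exists_combination (he : Twist F e) {u v : F} (hu : u ≠ 0) (hv : v ≠ 0) (huv : u ≠ v) (z : F) :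
    ∃ i ∈ II he, ∃ j ∈ II he, z = u * i + v * j := by
  obtain ⟨j, hj, hj'⟩ := exists_notMem_mul he (r := v / u) (div_ne_zero hv hu) fun h => huv ((div_eq_one_iff_eq hu).1 h).symm
  by_cases hz : z / u ∈ II he
  · exact ⟨z / u, hz, 0, zero_mem _, by field_simp; ring⟩
  · refine ⟨z / u + v / u * j,
      (AddSubgroup.add_mem_iff_of_index_two (index_II he)).2 (iff_of_false hz hj'), j, hj, ?_⟩
    field_simp
    linear_combination -(add_self he (v * j))

/-- Every element outside the hyperplane is `1 + i + i ^ e` with `i` inside. -/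
lemma exists_norm (he : Twist F e) {N : F} (hN : N ∉ II he) :
    ∃ i ∈ II he, 1 + i + i ^ e = N := by
  obtain ⟨⟨i, hi⟩, hii⟩ := Finite.surjective_of_injective
    (f := fun i : II he => (⟨psi he i, psi_mem he i⟩ : II he))
    (fun a b hab => by
      have h : psi he ((a : F) + b) = 0 := by
        rw [map_add, show psi he a = psi he b from congrArg Subtype.val hab]
        exact add_self he _
      refine Subtype.ext ?_
      rcases fixed he (eq_of_add_eq_zero he h) with h' | h'
      · exact eq_of_add_eq_zero he h'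
      · exact absurd (h' ▸ add_mem a.2 b.2) (one_notMem he))
    ⟨N + 1, (add_one_mem_iff he N).2 hN⟩
  refine ⟨i, hi, ?_⟩
  have h : i ^ e + i = N + 1 := congrArg Subtype.val hii
  linear_combination h + add_self he 1

lemma exists_ne (hc : 3 ≤ Nat.card F) : ∃ y : F, y ≠ 0 ∧ y ≠ 1 := by
  classical
  cases nonempty_fintype F
  obtain ⟨y, hy⟩ : ∃ y : F, y ∉ ({0, 1} : Finset F) := by
    by_contra hall
    push Not at hall
    have h := Finset.card_le_card (s := Finset.univ) (t := ({0, 1} : Finset F)) fun x _ => hall x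
    rw [Nat.card_eq_fintype_card] at hc
    rw [Finset.card_univ] at h
    have := (Finset.card_le_two (a := (0 : F)) (b := 1))
    omega
  simp only [Finset.mem_insert, Finset.mem_singleton, not_or] at hy
  exact ⟨y, hy⟩

/-- The equation `a ^ (e + 1) + a ^ (e + 2) + a b + b ^ e = T` with `a = β ^ (e - 1)` and its second
solution `b + β`. -/
theorem exists_pair (he : Twist F e) (hc : 3 ≤ Nat.card F) (T : F) :
    ∃ a b β : F, a ≠ 0 ∧ β ≠ 0 ∧ a * β = β ^ e ∧ a ^ (e + 1) + nrm e a b = T := by
  obtain ⟨β, hβ, hmem⟩ : ∃ β : F, β ≠ 0 ∧ (T + β) / β ^ e + 1 ∈ II he := by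
    by_contra hcon
    push Not at hcon
    have hall : ∀ y : F, T * y ^ e + y ^ (e - 1) ∈ II he := by
      intro y
      rcases eq_or_ne y 0 with rfl | hy
      · rw [zero_pow_e' he, zero_pow (by have := he.one_lt; omega), mul_zero, add_zero]
        exact zero_mem _
      · have h := hcon y⁻¹ (inv_ne_zero hy)
        rw [add_one_mem_iff, not_not] at h
        convert h using 1
        rw [inv_pow, div_inv_eq_mul, add_mul]
        have : y ^ e = y ^ (e - 1) * y := by
          rw [← pow_succ, Nat.sub_add_cancel he.one_lt.le]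
        rw [this]
        field_simp
    have hsurj := surjective_pow (F := F) (n := e - 1) (by have := he.one_lt; omega) fun w hw => by
      have h1 : w ^ e = w := by
        rw [show e = e - 1 + 1 by have := he.one_lt; omega, pow_succ, hw, one_mul]
      refine (fixed he h1).resolve_left ?_
      rintro rfl
      rw [zero_pow (by have := he.one_lt; omega)] at hw
      exact zero_ne_one hw
    set D : F → F → F := fun y z => (y + z) ^ (e - 1) + y ^ (e - 1) + z ^ (e - 1)
    have hD : ∀ y z c, c ^ (e - 1) * D y z ∈ II he := by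
      intro y z c
      have h := add_mem (add_mem (hall (c * y + c * z)) (hall (c * y))) (hall (c * z))
      convert h using 1
      rw [he.add_pow, ← mul_add c y z]
      simp only [D, mul_pow]
      linear_combination -(T * (add_self he (c ^ e * y ^ e)) + T * (add_self he (c ^ e * z ^ e)))
    obtain ⟨y, hy0, hy1⟩ := exists_ne hc
    have hD0 : D y 1 = 0 := by
      by_contra hne
      obtain ⟨c, hc'⟩ := hsurj (D y 1)⁻¹
      have := hD y 1 c
      rw [show c ^ (e - 1) = (D y 1)⁻¹ from hc', inv_mul_cancel₀ hne] at this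
      exact one_notMem he this
    have h3 : (y + 1) * D y 1 = y ^ (e - 1) + y := by
      obtain ⟨n, hn⟩ : ∃ n, e = n + 1 := ⟨e - 1, by have := he.one_lt; omega⟩
      have hadd := he.add_pow y 1
      simp only [D, hn, Nat.add_sub_cancel, one_pow] at hadd ⊢
      rw [pow_succ, pow_succ] at hadd
      linear_combination hadd + y ^ n * y * he.two + he.two
    rw [hD0, mul_zero] at h3
    have h4 : y ^ e = y ^ 2 := by
      rw [show e = e - 1 + 1 by have := he.one_lt; omega, pow_succ, eq_of_add_eq_zero he h3.symm,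
        pow_two]
    exact (fixed_sq he h4).elim hy0 hy1
  obtain ⟨y, hy⟩ := hmem
  have hy' : y ^ e + y = (T + β) / β ^ e + 1 := hy
  have ha : β ^ (e - 1) * β = β ^ e := by
    rw [← pow_succ, Nat.sub_add_cancel he.one_lt.le]
  refine ⟨β ^ (e - 1), β * y, β, pow_ne_zero _ hβ, hβ, ha, ?_⟩
  generalize hA : β ^ (e - 1) = a at ha
  have h1 : a ^ (e + 1) = β := by
    refine mul_right_cancel₀ (pow_ne_zero (e + 1) hβ) ?_
    rw [← mul_pow, ha, ← pow_succ', pow_succ (β ^ e), he.pow_pow, ← pow_add]
    congr 1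
    omega
  have h2 : a ^ (e + 2) = β ^ e := by
    rw [show e + 2 = e + 1 + 1 by omega, pow_succ, h1, mul_comm, ha]
  rw [nrm, h1, h2, mul_pow, show a * (β * y) = a * β * y by ring, ha]
  have h3 := congrArg (fun x => β ^ e * x) hy'
  simp only [mul_add, mul_div_cancel₀ _ (pow_ne_zero e hβ), mul_one] at h3
  linear_combination h3 + (β + β ^ e) * he.two

/-- The equation `T = s ^ e (1 + N² s²)` with `N` outside the hyperplane. -/
theorem exists_scale (he : Twist F e) (hc : 3 ≤ Nat.card F) (hev : 2 ∣ e) {T : F} (hT : T ≠ 0) :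
    ∃ s N : F, s ≠ 0 ∧ N ∉ II he ∧ s ^ e * (1 + N ^ 2 * s ^ 2) = T := by
  obtain ⟨k, rfl⟩ := hev
  have hk : k ≠ 0 := by have := he.one_lt; omega
  have hsq : ∀ x y : F, x ^ 2 = y ^ 2 → x = y := fun x y h =>
    eq_of_add_eq_zero he (pow_eq_zero_iff two_ne_zero |>.1
      (show (x + y) ^ 2 = 0 by linear_combination h + (x * y + y ^ 2) * he.two))
  have hke : ∀ x : F, (x ^ k) ^ 2 = x ^ (2 * k) := fun x => by rw [← pow_mul, mul_comm]
  have hadd : ∀ x y : F, (x + y) ^ k = x ^ k + y ^ k := fun x y => hsq _ _ (by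
    linear_combination hke (x + y) + he.add_pow x y - hke x - hke y - x ^ k * y ^ k * he.two)
  obtain ⟨T₁, hT₁⟩ := Finite.surjective_of_injective (f := fun x : F => x ^ 2)
    (fun x y h => hsq x y h) T
  obtain ⟨u, hu, hN⟩ : ∃ u : F, u ≠ 0 ∧ T₁ * u ^ (k + 1) + u ∉ II he := by
    by_contra hcon
    push Not at hcon
    have hall : ∀ u : F, T₁ * u ^ (k + 1) + u ∈ II he := by
      intro u
      rcases eq_or_ne u 0 with rfl | hu
      · rw [zero_pow (by omega), mul_zero, add_zero]
        exact zero_mem _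
      · exact hcon u hu
    obtain ⟨w, hw0, hw1⟩ := exists_ne hc
    have hww : w + w ^ k ≠ 0 := by
      intro h
      refine (fixed_sq he ?_).elim hw0 hw1
      rw [← hke, ← eq_of_add_eq_zero he h]
    have hsurj := surjective_pow (F := F) (n := k + 1) (by omega) fun x hx => by
      refine eq_one_of_pow_e2 he ?_
      rw [show 2 * k + 2 = (k + 1) * 2 by ring, pow_mul, hx, one_pow]
    have hT₁0 : T₁ ≠ 0 := by
      rintro rfl
      exact hT (by rw [← hT₁]; simp)
    obtain ⟨u, hu⟩ := hsurj (T₁ * (w + w ^ k))⁻¹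
    change u ^ (k + 1) = _ at hu
    have h := add_mem (add_mem (hall (u + u * w)) (hall u)) (hall (u * w))
    refine one_notMem he ?_
    convert h using 1
    have h1 : T₁ * u ^ (k + 1) * (w + w ^ k) = 1 := by
      rw [hu]
      field_simp
    simp only [pow_succ, hadd, mul_pow] at h1 ⊢
    linear_combination -h1 - (T₁ * u ^ k * u + T₁ * u ^ k * w ^ k * u * w + u + u * w) * he.two
  refine ⟨u⁻¹, T₁ * u ^ (k + 1) + u, inv_ne_zero hu, hN, ?_⟩
  rw [← hT₁, inv_pow, ← hke, show u ^ (k + 1) = u ^ k * u from pow_succ u k]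
  field_simp
  linear_combination (1 + T₁ * u ^ k) * he.two

end CfsgLib.KnownC.SuzukiProducts
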